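import Cfsg.Agent.Lib.SimsThree.Chain
import Cfsg.Agent.Lib.LAEven56.JComp.Shape
import Cfsg.Agent.Lib.OrthTwo.Binary

/-!
# The point stabilizer of a suborbit of length three

Owner: helper64.
-/

set_option autoImplicit false
set_option linter.style.haveILetI false

open scoped commutatorElement Pointwise

namespace Cfsg.Agent.Lib.SimsThree

variable {G : Type*} [Group G] [Finite G]

/-- A subgroup of order two. -/
theorem eq_of_card_two {A : Subgroup G} (h : Nat.card A = 2) {a b : G} (ha : a ∈ A) (ha1 : a ≠ 1)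
    (hb : b ∈ A) (hb1 : b ≠ 1) : a = b := by
  obtain ⟨z, -, hz⟩ := (Nat.card_eq_two_iff' (1 : A)).1 h
  have e1 := hz ⟨a, ha⟩ fun e => ha1 (congrArg Subtype.val e)
  have e2 := hz ⟨b, hb⟩ fun e => hb1 (congrArg Subtype.val e)
  exact congrArg Subtype.val (e1.trans e2.symm)

/-- The centraliser of a normal abelian subgroup on which two involutions act differently. -/
theorem inf_centralizer_le {X Q : Subgroup G} (hQX : Q ≤ X) (hn : X ≤ Subgroup.normalizer (Q : Set G))
    (hab : ∀ x ∈ Q, ∀ y ∈ Q, x * y = y * x) (hc : Nat.card X = Nat.card Q * 6) {a b : G} (ha : a ∈ X)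
    (hb : b ∈ X) (ha2 : a * a = 1) (hac : a ∉ Subgroup.centralizer (Q : Set G)) {q : G} (hq : q ∈ Q)
    (haq : Commute a q) (hbq : ¬ Commute b q) : X ⊓ Subgroup.centralizer (Q : Set G) ≤ Q := by
  set C := X ⊓ Subgroup.centralizer (Q : Set G) with hC
  have hQC : Q ≤ C := le_inf hQX fun x hx => Subgroup.mem_centralizer_iff.2 fun y hy => hab y hy x hx
  haveI : (C.subgroupOf X).Normal := by
    refine (Subgroup.normal_subgroupOf_iff inf_le_left).2 fun x g hx hg => ⟨?_, ?_⟩
    · exact X.mul_mem (X.mul_mem hg hx.1) (X.inv_mem hg)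
    · refine Subgroup.mem_centralizer_iff.2 fun y hy => ?_
      have hy' : g⁻¹ * y * g ∈ Q := (Subgroup.mem_normalizer_iff''.1 (hn hg) y).1 hy
      have := Subgroup.mem_centralizer_iff.1 hx.2 _ hy'
      calc y * (g * x * g⁻¹) = g * ((g⁻¹ * y * g) * x) * g⁻¹ := by group
        _ = g * (x * (g⁻¹ * y * g)) * g⁻¹ := by rw [this]
        _ = g * x * g⁻¹ * y := by group
  have hbC : b ∉ Subgroup.centralizer (Q : Set G) := fun h =>
    hbq ((Subgroup.mem_centralizer_iff.1 h q hq).symm)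
  have habC : a * b ∉ Subgroup.centralizer (Q : Set G) := fun h => hbq (by
    have h1 : Commute (a * b) q := (Subgroup.mem_centralizer_iff.1 h q hq).symm
    have := haq.mul_left h1
    rwa [← mul_assoc, ha2, one_mul] at this)
  set d := (C.subgroupOf X).index with hd
  have hcard : Nat.card C * d = Nat.card Q * 6 := by
    have := Subgroup.card_mul_index (C.subgroupOf X)
    rw [Nat.card_congr (Subgroup.subgroupOfEquivOfLe (inf_le_left : C ≤ X)).toEquiv, hc] at this
    exact this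
  obtain ⟨e, he⟩ := Subgroup.card_dvd_of_le hQC
  rw [he, mul_assoc] at hcard
  have hed : e * d = 6 := Nat.eq_of_mul_eq_mul_left Nat.card_pos hcard
  have hd1 : d ≠ 1 := by
    intro h
    rw [hd, Subgroup.index_eq_one, Subgroup.subgroupOf_eq_top] at h
    exact hac (h ha).2
  have hd2 : d ≠ 2 := fun h => by
    have hiff := Subgroup.mul_mem_iff_of_index_two h (a := (⟨a, ha⟩ : X)) (b := (⟨b, hb⟩ : X))
    exact habC (hiff.2 ⟨fun h' => absurd h'.2 hac, fun h' => absurd h'.2 hbC⟩).2
  have hd3 : d ≠ 3 := fun h => by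
    have := Subgroup.pow_index_mem (C.subgroupOf X) (⟨a, ha⟩ : X)
    rw [← hd, h] at this
    have h' : a ^ 3 ∈ C := this
    rw [pow_succ, pow_two, ha2, one_mul] at h'
    exact hac h'.2
  have hd6 : e = 1 := by
    rcases Nat.eq_zero_or_pos e with h0 | h0
    · simp [h0] at hed
    have hle : d ≤ 6 := Nat.le_of_dvd (by norm_num) ⟨e, by rw [← hed, mul_comm]⟩
    interval_cases d <;> omega
  exact (Subgroup.eq_of_le_of_card_ge hQC (by rw [he, hd6, mul_one])).ge

/-- Transfer: a central involution splitting off in a subgroup of index three splits off. -/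
theorem exists_index_two_not_mem {X : Type*} [Group X] [Finite X] (J M : Subgroup X) (hJ : J.index = 3)
    (hM : M.relIndex J = 2) (z : X) (hzJ : z ∈ J) (hzM : z ∉ M) (hzc : ∀ g, Commute z g) (hz : z * z = 1) :
    ∃ L : Subgroup X, L.index = 2 ∧ z ∉ L := by
  classical
  haveI : (M.subgroupOf J).Normal := Subgroup.normal_of_index_eq_two hM
  haveI : Fact (Nat.Prime 2) := ⟨Nat.prime_two⟩
  have hq : Nat.card (J ⧸ M.subgroupOf J) = 2 := hM
  let e : J ⧸ M.subgroupOf J ≃* Multiplicative (ZMod 2) := mulEquivOfPrimeCardEq (p := 2) hq (by simp)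
  let φ : J →* Multiplicative (ZMod 2) := e.toMonoidHom.comp (QuotientGroup.mk' (M.subgroupOf J))
  have key : ∀ (n : ℕ) (g₀ : X), g₀⁻¹ * z ^ n * g₀ ∈ J → g₀⁻¹ * z ^ n * g₀ = z ^ n := fun n g₀ _ => by
    rw [mul_assoc, ((hzc g₀).pow_left n).eq, inv_mul_cancel_left]
  have hχz : MonoidHom.transfer φ z ≠ 1 := by
    rw [MonoidHom.transfer_eq_pow (ϕ := φ) z key]
    intro he
    have h2 : QuotientGroup.mk' (M.subgroupOf J) ⟨z ^ J.index, MonoidHom.transfer_eq_pow_aux z key⟩ = 1 :=
      e.map_eq_one_iff.1 he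
    rw [QuotientGroup.mk'_apply, QuotientGroup.eq_one_iff] at h2
    have h3 : z ^ J.index ∈ M := h2
    rw [hJ, pow_succ, pow_two, hz, one_mul] at h3
    exact hzM h3
  refine ⟨(MonoidHom.transfer φ).ker, ?_, fun h => hχz h⟩
  rw [Subgroup.index_ker]
  have hd : Nat.card (MonoidHom.transfer φ).range ∣ 2 := by
    simpa using Subgroup.card_subgroup_dvd_card (MonoidHom.transfer φ).range
  rcases (Nat.dvd_prime Nat.prime_two).1 hd with h | h
  · exfalso
    rw [Subgroup.card_eq_one] at h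
    exact hχz (Subgroup.mem_bot.1 (h ▸ MonoidHom.mem_range.2 ⟨z, rfl⟩))
  · exact h

/-- A central involution outside a subgroup of index two is a direct factor. -/
theorem iso_prod {X : Type*} [Group X] [Finite X] (L : Subgroup X) (hL : L.index = 2) (z : X) (hzL : z ∉ L)
    (hz : z * z = 1) (hzc : ∀ g, Commute z g) : Nonempty (X ≃* L × Multiplicative (ZMod 2)) := by
  haveI : Fact (Nat.Prime 2) := ⟨Nat.prime_two⟩
  have hzo : Nat.card (Subgroup.zpowers z) = 2 := by
    rw [Nat.card_zpowers]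
    exact orderOf_eq_prime (by rw [pow_two]; exact hz) (fun h => hzL (h ▸ L.one_mem))
  let f : L × Subgroup.zpowers z →* X := MonoidHom.noncommCoprod L.subtype (Subgroup.zpowers z).subtype
    fun l w => by
      obtain ⟨n, hn⟩ := w.2
      show Commute (l : X) (w : X)
      rw [← hn]
      exact ((hzc (l : X)).zpow_left n).symm
  have hinj : Function.Injective f := by
    rw [injective_iff_map_eq_one]
    rintro ⟨⟨l, hl⟩, ⟨w, hw⟩⟩ h
    have h' : l * w = 1 := h
    have hwL : w ∈ L := by rw [eq_inv_of_mul_eq_one_right h']; exact inv_mem hl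
    have hw1 : w = 1 := by
      by_contra hw1
      obtain ⟨n, hn⟩ : ∃ n : ℤ, z ^ n = w := hw
      rcases Int.even_or_odd n with ⟨j, hj⟩ | ⟨j, hj⟩
      · exact hw1 (by rw [← hn, hj, ← two_mul, zpow_mul, zpow_two, hz, one_zpow])
      · apply hzL
        have : z ^ n = z := by rw [hj, zpow_add, zpow_mul, zpow_two, hz, one_zpow, one_mul, zpow_one]
        rw [← this]
        exact hn.symm ▸ hwL
    subst hw1
    rw [mul_one] at h'
    subst h'
    rfl
  have hcard : Nat.card (L × Subgroup.zpowers z) = Nat.card X := by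
    rw [Nat.card_prod, hzo, ← hL, L.card_mul_index]
  exact ⟨(MulEquiv.ofBijective f ((Nat.bijective_iff_injective_and_card f).2 ⟨hinj, hcard⟩)).symm.trans
    (MulEquiv.prodCongr (MulEquiv.refl _) (mulEquivOfPrimeCardEq (p := 2) hzo (by simp)))⟩

namespace Chain

variable (C : Chain G)

/-- The stabilizer, up to conjugation. -/
noncomputable def pointEquiv (q : ℤ) : C.H ≃* C.W q q :=
  ((C.H.equivMapOfInjective (MulAut.conj (C.u ^ q)).toMonoidHom (MulAut.conj (C.u ^ q)).injective)).trans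
    (MulEquiv.subgroupCongr (by
      have := win_shift C.H C.u 0 0 q
      rw [zero_add, win_zero] at this
      exact this.symm))

theorem exists_order_three (q : ℤ) : ∃ g ∈ C.W q q, orderOf g = 3 := by
  haveI : Fact (Nat.Prime 3) := ⟨Nat.prime_three⟩
  obtain ⟨⟨g, hg⟩, h⟩ := exists_prime_orderOf_dvd_card' (G := C.W q q) 3 (by rw [C.card_point]; exact dvd_mul_right 3 _)
  exact ⟨g, hg, by rwa [Subgroup.orderOf_mk] at h⟩

theorem iso_one (hk : C.k = 1) : Nonempty (C.H ≃* Equiv.Perm (Fin 3)) := by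
  classical
  set X := C.W 1 1
  have hX : Nat.card X = 6 := by rw [C.card_point, hk]; norm_num
  have ha : C.xx 0 ∈ X := C.xx_mem 0 (by norm_num) (by omega)
  have hb : C.xx 1 ∈ X := C.xx_mem 1 le_rfl (by omega)
  have hl : C.lam = 1 := by
    have h0 : C.lam ≠ 0 := fun h => C.not_commute_lam (by rw [h]; exact Commute.refl _)
    have := C.lam_le
    omega
  have hnc : ¬ Commute (C.xx 0) (C.xx 1) := by
    have := C.not_commute_lam; rwa [hl] at this
  set a : X := ⟨C.xx 0, ha⟩
  set b : X := ⟨C.xx 1, hb⟩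
  set S := Subgroup.zpowers a with hS
  have hao : orderOf a = 2 := by
    refine orderOf_eq_prime ?_ ?_
    · exact Subtype.ext (by rw [pow_two]; exact C.xx_sq 0)
    · exact fun e => C.xx_ne_one 0 (congrArg Subtype.val e)
  have hScard : Nat.card S = 2 := by rw [Nat.card_zpowers, hao]
  have hcore : S.normalCore = ⊥ := by
    rw [Subgroup.eq_bot_iff_forall]
    intro g hg
    by_contra hg1
    have hga : g = a := eq_of_card_two hScard (Subgroup.normalCore_le _ hg) hg1 (Subgroup.mem_zpowers a)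
      (fun e => C.xx_ne_one 0 (congrArg Subtype.val e))
    have h1 : b * a * b⁻¹ = a := eq_of_card_two hScard (hga ▸ hg b)
      (by rw [ne_eq, conj_eq_one_iff]; exact fun e => C.xx_ne_one 0 (congrArg Subtype.val e)) (Subgroup.mem_zpowers a)
      (fun e => C.xx_ne_one 0 (congrArg Subtype.val e))
    exact hnc (congrArg Subtype.val (mul_inv_eq_iff_eq_mul.1 h1) : C.xx 1 * C.xx 0 = C.xx 0 * C.xx 1).symm
  let f := MulAction.toPermHom X (X ⧸ S)
  have hinj : Function.Injective f := by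
    rw [← MonoidHom.ker_eq_bot_iff, ← Subgroup.normalCore_eq_ker, hcore]
  have hidx : Nat.card (X ⧸ S) = 3 := by
    have := Subgroup.card_mul_index S
    rw [hScard, hX, Subgroup.index] at this
    omega
  have hcp : Nat.card X = Nat.card (Equiv.Perm (X ⧸ S)) := by rw [Nat.card_perm, hidx, hX]; rfl
  let e : X ≃* Equiv.Perm (X ⧸ S) := MulEquiv.ofBijective f ((Nat.bijective_iff_injective_and_card f).2 ⟨hinj, hcp⟩)
  exact ⟨(C.pointEquiv 1).trans (e.trans (Finite.equivFinOfCardEq hidx).permCongrHom)⟩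

theorem iso_two (hk : C.k = 2) : Nonempty (C.H ≃* DihedralGroup 6) := by
  classical
  set X := C.W 2 2
  have hX : Nat.card X = 12 := by rw [C.card_point, hk]; norm_num
  have hl : C.lam = 2 := by
    have := C.two_le_lam (by omega)
    have := C.upper (by omega)
    omega
  have hmem : ∀ l : ℤ, 0 ≤ l → l ≤ 2 → C.xx l ∈ X := fun l h1 h2 => C.xx_mem l (by omega) (by omega)
  set a : X := ⟨C.xx 0, hmem 0 le_rfl (by norm_num)⟩
  set z : X := ⟨C.xx 1, hmem 1 (by norm_num) (by norm_num)⟩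
  have hnc : ¬ Commute (C.xx 0) (C.xx 2) := by
    have := C.not_commute_lam; rwa [hl] at this
  have hz : ∀ g : X, Commute z g := by
    intro g
    have hg : (g : G) ∈ Subgroup.closure (C.gens ((2 : ℤ) - C.k) 2) := by
      rw [C.closure_gens_point]; exact g.2
    refine Subtype.ext (C.commute_gens (z := C.xx 1) (fun l h1 h2 => ?_) hg).eq
    exact C.commute_of_lt (by omega) (by omega)
  obtain ⟨g, hg, hg3⟩ := C.exists_order_three 2
  set g' : X := ⟨g, hg⟩
  have hg3' : orderOf g' = 3 := by rw [Subgroup.orderOf_mk, hg3]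
  have hz2 : orderOf z = 2 := orderOf_eq_prime (Subtype.ext (by rw [pow_two]; exact C.xx_sq 1))
    fun e => C.xx_ne_one 1 (congrArg Subtype.val e)
  set R := g' * z with hR
  have hR6 : orderOf R = 6 := by
    rw [hR, (hz g').symm.orderOf_mul_eq_mul_orderOf_of_coprime (by rw [hg3', hz2]; norm_num), hg3', hz2]
  have hidx : (Subgroup.zpowers R).index = 2 := by
    have := Subgroup.card_mul_index (Subgroup.zpowers R)
    rw [Nat.card_zpowers, hR6, hX] at this
    omega
  have haR : ∀ j : ℤ, a ≠ R ^ j := by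
    intro j e
    have hcomm : Commute a R := e ▸ (Commute.refl R).zpow_left j
    have hag : Commute a g' := by
      have := hcomm.mul_right ((hz a).symm.inv_right)
      rwa [hR, mul_inv_cancel_right] at this
    have h3 : g' ^ 3 = 1 := hg3' ▸ pow_orderOf_eq_one g'
    have hz3 : R ^ 3 = z := by
      rw [hR, (hz g').symm.mul_pow, h3, one_mul]
      exact Subtype.ext (by rw [pow_succ, pow_two]; show C.xx 1 * C.xx 1 * C.xx 1 = _; rw [C.xx_sq, one_mul])
    -- the only involution among the powers of `R` is `z`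
    obtain ⟨n, hn6, hn⟩ : ∃ n : ℕ, n < 6 ∧ R ^ n = a := by
      refine ⟨(j % 6).toNat, by omega, ?_⟩
      rw [e, ← zpow_natCast, Int.toNat_of_nonneg (Int.emod_nonneg _ (by norm_num))]
      have := zpow_mod_orderOf R j
      rwa [hR6] at this
    have ha2 : a * a = 1 := Subtype.ext (C.xx_sq 0)
    have hd : orderOf R ∣ n + n := orderOf_dvd_of_pow_eq_one (by rw [pow_add, hn, ha2])
    rw [hR6] at hd
    interval_cases n
    · rw [pow_zero] at hn
      exact C.xx_ne_one 0 (congrArg Subtype.val hn).symm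
    · norm_num at hd
    · norm_num at hd
    · rw [hz3] at hn
      have e : C.xx 1 = C.xx 0 := congrArg Subtype.val hn
      exact C.xx_not_mem 0 (lo := 2) (hi := 3) (by omega) (by omega)
        (e ▸ C.xx_mem 1 (lo := 2) (hi := 3) (by norm_num) (by omega))
    · norm_num at hd
    · norm_num at hd
  have hconj : a * R * a = R⁻¹ := by
    have ha2 : a⁻¹ = a := inv_eq_of_mul_eq_one_left (Subtype.ext (C.xx_sq 0))
    have hin : a * R * a⁻¹ ∈ Subgroup.zpowers R :=
      (Subgroup.normal_of_index_eq_two hidx).conj_mem R (Subgroup.mem_zpowers R) a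
    rw [ha2] at hin
    obtain ⟨n, hn6, hn⟩ : ∃ n : ℕ, n < 6 ∧ R ^ n = a * R * a := by
      obtain ⟨j, hj⟩ := hin
      refine ⟨(j % 6).toNat, by omega, ?_⟩
      rw [← zpow_natCast, Int.toNat_of_nonneg (Int.emod_nonneg _ (by norm_num))]
      have := zpow_mod_orderOf R j
      rw [hR6] at this
      exact this.trans hj
    have ho : orderOf (R ^ n) = 6 := by
      rw [hn]
      have : a * R * a = MulAut.conj a R := by rw [MulAut.conj_apply, ha2]
      rw [this, (MulAut.conj a).orderOf_eq, hR6]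
    rw [orderOf_pow, hR6] at ho
    have hn15 : n = 1 ∨ n = 5 := by
      interval_cases n <;> norm_num at ho <;> simp
    rcases hn15 with rfl | rfl
    · exfalso
      rw [pow_one] at hn
      have haR' : Commute a R := by
        have h2 : a * R * a⁻¹ = R := by rw [ha2]; exact hn.symm
        exact mul_inv_eq_iff_eq_mul.1 h2
      have hab : ∀ x y : X, Commute x y := by
        intro x y
        have hrep : ∀ x : X, ∃ (i : ℤ), x = R ^ i ∨ x = a * R ^ i := fun x => by
          by_cases hx : x ∈ Subgroup.zpowers R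
          · obtain ⟨i, hi⟩ := hx; exact ⟨i, Or.inl hi.symm⟩
          · have ha' : a ∉ Subgroup.zpowers R := fun ⟨i, hi⟩ => haR i hi.symm
            obtain ⟨i, hi⟩ := (Subgroup.mul_mem_iff_of_index_two hidx (a := a) (b := x)).2
              ⟨fun h => absurd h ha', fun h => absurd h hx⟩
            refine ⟨i, Or.inr ?_⟩
            show x = a * R ^ i
            rw [show R ^ i = a * x from hi, ← mul_assoc]
            nth_rw 1 [← ha2]
            rw [inv_mul_cancel, one_mul]
        obtain ⟨i, rfl | rfl⟩ := hrep x <;> obtain ⟨j, rfl | rfl⟩ := hrep y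
        · exact (Commute.refl R).zpow_zpow i j
        · exact (haR'.symm.zpow_left i).mul_right ((Commute.refl R).zpow_zpow i j)
        · exact (haR'.zpow_right j).mul_left ((Commute.refl R).zpow_zpow i j)
        · exact (((Commute.refl a).mul_right (haR'.zpow_right j))).mul_left
            ((haR'.symm.zpow_left i).mul_right ((Commute.refl R).zpow_zpow i j))
      exact hnc (congrArg Subtype.val (hab a ⟨C.xx 2, hmem 2 (by norm_num) le_rfl⟩).eq)
    · rw [← hn, eq_inv_iff_mul_eq_one, ← pow_succ, show 5 + 1 = orderOf R by rw [hR6], pow_orderOf_eq_one]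
  refine ⟨(C.pointEquiv 2).trans (OrthTwo.Binary.dihedral_of (r := R) (s := a) hR6 (Subtype.ext (C.xx_sq 0))
    haR hconj fun x => ?_).some⟩
  by_cases hx : x ∈ Subgroup.zpowers R
  · obtain ⟨i, hi⟩ := hx; exact ⟨i, Or.inl hi.symm⟩
  · have ha' : a ∉ Subgroup.zpowers R := fun ⟨i, hi⟩ => haR i hi.symm
    obtain ⟨i, hi⟩ := (Subgroup.mul_mem_iff_of_index_two hidx (a := a) (b := x)).2
      ⟨fun h => absurd h ha', fun h => absurd h hx⟩
    refine ⟨i, Or.inr ?_⟩
    rw [show R ^ i = a * x from hi, ← mul_assoc, show a * a = 1 from Subtype.ext (C.xx_sq 0), one_mul]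

theorem normalizer_of_comm {A : Subgroup G} {p q : ℤ} (hA : Subgroup.closure (C.gens p q) = A) (m : ℤ)
    (h : ∀ l, p ≤ l → l ≤ q → ⁅C.xx m, C.xx l⁆ ∈ A) : C.xx m ∈ Subgroup.normalizer (A : Set G) := by
  rw [Subgroup.mem_normalizer_iff_map_conj_eq]
  refine Subgroup.eq_of_le_of_card_ge ?_ (Subgroup.card_map_of_injective (MulAut.conj (C.xx m)).injective).ge
  conv_lhs => rw [← hA]
  rw [MonoidHom.map_closure, Subgroup.closure_le]
  rintro _ ⟨_, ⟨l, h1, h2, rfl⟩, rfl⟩
  have hl : C.xx l ∈ A := hA ▸ Subgroup.subset_closure (C.xx_mem_gens l h1 h2)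
  have h' := mul_mem (h l h1 h2) hl
  simpa [commutatorElement_def, mul_assoc] using h'

theorem comm_one {p q : ℤ} (h1 : q < p + C.lam) (h2 : p < q + C.lam) : ⁅C.xx p, C.xx q⁆ = 1 :=
  commutatorElement_eq_one_iff_mul_comm.2 (C.commute_of_lt h1 h2).eq

theorem iso_three (hk : C.k = 3) : Nonempty (C.H ≃* Equiv.Perm (Fin 4)) := by
  have hl : C.lam = 2 := by
    have := C.two_le_lam (by omega)
    have := C.upper (by omega)
    omega
  have hk' : (C.k : ℤ) = 3 := by omega
  have hl' : (C.lam : ℤ) = 2 := by omega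
  set X := C.W 3 3 with hXdef
  set V := C.W 2 4 with hVdef
  have hVgen : Subgroup.closure (C.gens 1 2) = V := by
    rw [C.closure_gens (by omega) (by omega), hk']; rfl
  have hVX : V ≤ X := win_mono (by norm_num) (by norm_num)
  have hX : Nat.card X = 24 := by rw [C.card_point, hk]; norm_num
  have hV4 : Nat.card V = 4 := by rw [C.card_W (by norm_num) (by omega), hk]; rfl
  set y := ⁅C.xx 0, C.xx 2⁆ with hy
  have hym : y ∈ C.W 1 4 := by
    have := C.comm_mem (p := 0) (q := 2) (by norm_num) (by omega)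
    rw [hk'] at this
    exact this
  have hy1 : y ≠ 1 := by
    intro h
    have := C.not_commute_lam
    rw [hl'] at this
    exact this (commutatorElement_eq_one_iff_mul_comm.1 h)
  have hy' : y = C.xx 1 := eq_of_card_two (by rw [C.card_W (by norm_num) (by omega), hk]; rfl) hym hy1
    (C.xx_mem 1 le_rfl (by omega)) (C.xx_ne_one 1)
  have hy'' : ⁅C.xx 1, C.xx 3⁆ = C.xx 2 := by
    have h := congrArg (fun g => C.u ^ (1 : ℤ) * g * (C.u ^ (1 : ℤ))⁻¹) hy'
    simp only [C.xx_shift] at h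
    rw [show (1 : ℤ) + 1 = 2 by norm_num] at h
    rw [← h, hy]
    have e0 := C.xx_shift 0 1
    have e2 := C.xx_shift 2 1
    rw [show (0 : ℤ) + 1 = 1 by norm_num] at e0
    rw [show (2 : ℤ) + 1 = 3 by norm_num] at e2
    rw [← e0, ← e2]
    simp only [commutatorElement_def]; group
  have hgV : ∀ l : ℤ, 1 ≤ l → l ≤ 2 → C.xx l ∈ V := fun l h1 h2 =>
    hVgen ▸ Subgroup.subset_closure (C.xx_mem_gens l h1 h2)
  have hn : X ≤ Subgroup.normalizer (V : Set G) := by
    refine C.normalizer_point _ fun m h1 h2 => C.normalizer_of_comm hVgen m fun l l1 l2 => ?_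
    by_cases hclose : m < l + 2 ∧ l < m + 2
    · rw [C.comm_one (by omega) (by omega)]; exact one_mem _
    rcases (show (m = 0 ∧ l = 2) ∨ (m = 3 ∧ l = 1) by omega) with ⟨rfl, rfl⟩ | ⟨rfl, rfl⟩
    · rw [← hy, hy']; exact hgV 1 le_rfl (by norm_num)
    · rw [← commutatorElement_inv, hy'', C.xx_inv]; exact hgV 2 (by norm_num) le_rfl
  have hcomm : ∀ l l' : ℤ, 1 ≤ l → l ≤ 2 → 1 ≤ l' → l' ≤ 2 → Commute (C.xx l) (C.xx l') := fun l l' a b c d =>
    C.commute_of_lt (by omega) (by omega)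
  have habV : ∀ v ∈ V, ∀ w ∈ V, v * w = w * v := by
    intro v hv w hw
    rw [← hVgen] at hv hw
    exact (C.commute_gens (fun l' c d => (C.commute_gens (fun l a b => hcomm l' l c d a b) hv).symm) hw).eq
  have hW : Cfsg.IsElementaryAbelian 2 V := by
    refine ⟨⟨⟨fun v w => Subtype.ext (habV v v.2 w w.2)⟩⟩, fun v hv => ?_⟩
    rw [pow_two]; exact C.sq_gens hcomm (hVgen ▸ hv)
  have hC : X ⊓ Subgroup.centralizer (V : Set G) ≤ V := by
    refine inf_centralizer_le hVX hn habV (by rw [hX, hV4]) (a := C.xx 0) (b := C.xx 3)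
      (C.xx_mem 0 (by norm_num) (by omega)) (C.xx_mem 3 le_rfl (by omega)) (C.xx_sq 0) ?_
      (hgV 1 le_rfl (by norm_num)) (C.commute_of_lt (by omega) (by omega)) ?_
    · intro h
      exact hy1 (commutatorElement_eq_one_iff_mul_comm.2
        (Subgroup.mem_centralizer_iff.1 h _ (hgV 2 (by norm_num) le_rfl)).symm)
    · intro h
      have := C.not_commute_shift 1
      rw [hl'] at this
      exact this h.symm
  obtain ⟨e⟩ := LAEven56.JComp.iso_perm_four hVX hn hW hV4 hX hC
  exact ⟨(C.pointEquiv 3).trans e⟩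

theorem iso_four (hk : C.k = 4) :
    Nonempty (C.H ≃* Equiv.Perm (Fin 4) × Multiplicative (ZMod 2)) := by
  classical
  have hl : C.lam = 3 := by
    have := C.two_le_lam (by omega)
    have := C.upper (by omega)
    have := C.lower (by omega)
    omega
  have hk' : (C.k : ℤ) = 4 := by omega
  have hl' : (C.lam : ℤ) = 3 := by omega
  set X := C.W 4 4 with hXdef
  set Q := C.W 3 5 with hQdef
  set Z := C.W 2 6 with hZdef
  have hQgen : Subgroup.closure (C.gens 1 3) = Q := by
    rw [C.closure_gens (by omega) (by omega), hk']; rfl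
  have hX : Nat.card X = 48 := by rw [C.card_point, hk]; norm_num
  have hQ8 : Nat.card Q = 8 := by rw [C.card_W (by norm_num) (by omega), hk]; rfl
  have hQX : Q ≤ X := win_mono (by norm_num) (by norm_num)
  have hgQ : ∀ l : ℤ, 1 ≤ l → l ≤ 3 → C.xx l ∈ Q := fun l h1 h2 =>
    hQgen ▸ Subgroup.subset_closure (C.xx_mem_gens l h1 h2)
  have hxX : ∀ l : ℤ, 0 ≤ l → l ≤ 4 → C.xx l ∈ X := fun l h1 h2 => C.xx_mem l (by omega) (by omega)
  have hzc : ∀ g ∈ X, Commute (C.xx 2) g := by
    intro g hg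
    have hg' : g ∈ Subgroup.closure (C.gens ((4 : ℤ) - C.k) 4) := by rw [C.closure_gens_point]; exact hg
    exact C.commute_gens (fun l h1 h2 => C.commute_of_lt (by omega) (by omega)) hg'
  have hZ2 : Nat.card Z = 2 := by rw [C.card_W (by norm_num) (by omega), hk]; rfl
  have hzZ : C.xx 2 ∈ Z := C.xx_mem 2 le_rfl (by omega)
  have hZc : ∀ z ∈ Z, ∀ g ∈ X, Commute z g := by
    intro z hz g hg
    by_cases hz1 : z = 1
    · rw [hz1]; exact Commute.one_left g
    · rw [eq_of_card_two hZ2 hz hz1 hzZ (C.xx_ne_one 2)]; exact hzc g hg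
  set y := ⁅C.xx 0, C.xx 3⁆ with hy
  have hym : y ∈ C.W 2 5 := by
    have := C.comm_mem (p := 0) (q := 3) (by norm_num) (by omega)
    rw [hk'] at this
    exact this
  have hy1 : y ≠ 1 := by
    intro h
    have := C.not_commute_lam
    rw [hl'] at this
    exact this (commutatorElement_eq_one_iff_mul_comm.1 h)
  have hQ25 : C.W 2 5 ≤ Q := by
    rw [← hQgen, show (5 : ℤ) = 1 + C.k by omega, ← C.closure_gens (by omega) (by omega)]
    exact Subgroup.closure_mono fun g ⟨l, h1, h2, e⟩ => e ▸ C.xx_mem_gens l h1 (by omega)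
  have hyQ : y ∈ Q := hQ25 hym
  have hy4 : ⁅C.xx 1, C.xx 4⁆ ∈ C.W 3 6 := by
    have := C.comm_mem (p := 1) (q := 4) (by norm_num) (by omega)
    rw [hk'] at this
    exact this
  have hy4Q : ⁅C.xx 1, C.xx 4⁆ ∈ Q := win_mono le_rfl (by norm_num) hy4
  have hQn : X ≤ Subgroup.normalizer (Q : Set G) := by
    refine C.normalizer_point _ fun m h1 h2 => C.normalizer_of_comm hQgen m fun l l1 l2 => ?_
    by_cases hclose : m < l + 3 ∧ l < m + 3
    · rw [C.comm_one (by omega) (by omega)]; exact one_mem _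
    rcases (show (m = 0 ∧ l = 3) ∨ (m = 4 ∧ l = 1) by omega) with ⟨rfl, rfl⟩ | ⟨rfl, rfl⟩
    · exact hyQ
    · rw [← commutatorElement_inv]; exact inv_mem hy4Q
  have hQc : ∀ l l' : ℤ, 1 ≤ l → l ≤ 3 → 1 ≤ l' → l' ≤ 3 → Commute (C.xx l) (C.xx l') := fun l l' a b c d =>
    C.commute_of_lt (by omega) (by omega)
  have habQ : ∀ v ∈ Q, ∀ w ∈ Q, v * w = w * v := by
    intro v hv w hw
    rw [← hQgen] at hv hw
    exact (C.commute_gens (fun l' c d => (C.commute_gens (fun l a b => hQc l' l c d a b) hv).symm) hw).eq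
  -- the elements acting trivially on `Q / Z`
  let S : Subgroup X :=
    { carrier := {h | ∀ v ∈ Q, ⁅(h : G), v⁆ ∈ Z}
      one_mem' := fun v _ => by simp [commutatorElement_one_left, Z.one_mem]
      mul_mem' := fun {h h'} hh hh' v hv => by
        have hv' : (h' : G) * v * (h' : G)⁻¹ ∈ Q := (Subgroup.mem_normalizer_iff.1 (hQn h'.2) v).1 hv
        have e : ⁅((h * h' : X) : G), v⁆ = ⁅(h : G), (h' : G) * v * (h' : G)⁻¹⁆ * ⁅(h' : G), v⁆ := by
          simp only [Subgroup.coe_mul, commutatorElement_def]; group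
        rw [e]; exact mul_mem (hh _ hv') (hh' v hv)
      inv_mem' := fun {h} hh v hv => by
        have hv' : (h : G)⁻¹ * v * (h : G) ∈ Q := (Subgroup.mem_normalizer_iff''.1 (hQn h.2) v).1 hv
        have e : ⁅((h⁻¹ : X) : G), v⁆ = ⁅(h : G), (h : G)⁻¹ * v * (h : G)⁆⁻¹ := by
          simp only [Subgroup.coe_inv, commutatorElement_def]; group
        rw [e]; exact inv_mem (hh _ hv') }
  haveI hSn : S.Normal := by
    refine ⟨fun s hs g v hv => ?_⟩
    have hv' : (g : G)⁻¹ * v * (g : G) ∈ Q := (Subgroup.mem_normalizer_iff''.1 (hQn g.2) v).1 hv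
    have e : ⁅((g * s * g⁻¹ : X) : G), v⁆ = (g : G) * ⁅(s : G), (g : G)⁻¹ * v * (g : G)⁆ * (g : G)⁻¹ := by
      simp only [Subgroup.coe_mul, Subgroup.coe_inv, commutatorElement_def]; group
    rw [e, ((hZc _ (hs _ hv') _ g.2).symm).eq, mul_inv_cancel_right]
    exact hs _ hv'
  have hSgen : ∀ m (h1 : 0 ≤ m) (h2 : m ≤ 4), (∀ l, 1 ≤ l → l ≤ 3 → ⁅C.xx m, C.xx l⁆ ∈ Z) →
      (⟨C.xx m, hxX m h1 h2⟩ : X) ∈ S := by
    intro m h1 h2 h v hv
    rw [← hQgen] at hv
    induction hv using Subgroup.closure_induction with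
    | mem a ha => obtain ⟨l, l1, l2, rfl⟩ := ha; exact h l l1 l2
    | one => simp [commutatorElement_one_right, Z.one_mem]
    | mul a b ha hb iha ihb =>
      have haQ : a ∈ Q := hQgen ▸ ha
      have e : ⁅C.xx m, a * b⁆ = ⁅C.xx m, a⁆ * (a * ⁅C.xx m, b⁆ * a⁻¹) := by
        simp only [commutatorElement_def]; group
      rw [show ((⟨C.xx m, hxX m h1 h2⟩ : X) : G) = C.xx m from rfl] at iha ihb ⊢
      rw [e, ((hZc _ ihb _ (hQX haQ)).symm).eq, mul_inv_cancel_right]
      exact mul_mem iha ihb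
    | inv a ha iha =>
      have haQ : a ∈ Q := hQgen ▸ ha
      have e : ⁅C.xx m, a⁻¹⁆ = a⁻¹ * ⁅C.xx m, a⁆⁻¹ * a⁻¹⁻¹ := by
        simp only [commutatorElement_def]; group
      rw [show ((⟨C.xx m, hxX m h1 h2⟩ : X) : G) = C.xx m from rfl] at iha ⊢
      rw [e, ((hZc _ (inv_mem iha) _ (inv_mem (hQX haQ))).symm).eq, mul_inv_cancel_right]
      exact inv_mem iha
  have hmid : ∀ m, 1 ≤ m → m ≤ 3 → ∀ (h1 : (0 : ℤ) ≤ m) (h2 : m ≤ 4), (⟨C.xx m, hxX m h1 h2⟩ : X) ∈ S :=
    fun m a b h1 h2 => hSgen m h1 h2 fun l l1 l2 => by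
      rw [C.comm_one (by omega) (by omega)]; exact Z.one_mem
  -- `S` contains both or neither of `x₀`, `x₄`
  have hboth : ((⟨C.xx 0, hxX 0 le_rfl (by norm_num)⟩ : X) ∈ S ∨ (⟨C.xx 4, hxX 4 (by norm_num) le_rfl⟩ : X) ∈ S) →
      ((⟨C.xx 0, hxX 0 le_rfl (by norm_num)⟩ : X) ∈ S ∧ (⟨C.xx 4, hxX 4 (by norm_num) le_rfl⟩ : X) ∈ S) := by
    intro hor
    obtain ⟨P, hPc, hPX, hPS⟩ : ∃ P : Subgroup G, Nat.card P = 16 ∧ P ≤ X ∧ P ≤ S.map X.subtype := by
      rcases hor with h | h
      · refine ⟨C.W 3 4, by rw [C.card_W (by norm_num) (by omega), hk]; rfl, win_mono (by norm_num) le_rfl, ?_⟩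
        rw [show (4 : ℤ) = 0 + C.k by omega, ← C.closure_gens (by omega) (by omega), Subgroup.closure_le]
        rintro _ ⟨l, l1, l2, rfl⟩
        refine ⟨⟨C.xx l, hxX l l1 (by omega)⟩, ?_, rfl⟩
        by_cases hl0 : l = 0
        · subst hl0; exact h
        · exact hmid l (by omega) l2 l1 (by omega)
      · refine ⟨C.W 4 5, by rw [C.card_W (by norm_num) (by omega), hk]; rfl, win_mono le_rfl (by norm_num), ?_⟩
        rw [show (5 : ℤ) = 1 + C.k by omega, ← C.closure_gens (by omega) (by omega), Subgroup.closure_le]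
        rintro _ ⟨l, l1, l2, rfl⟩
        refine ⟨⟨C.xx l, hxX l (by omega) l2⟩, ?_, rfl⟩
        by_cases hl4 : l = 4
        · subst hl4; exact h
        · exact hmid l l1 (by omega) (by omega) l2
    have hdvd := Subgroup.card_dvd_of_le hPS
    rw [hPc, Subgroup.card_map_of_injective X.subtype_injective] at hdvd
    obtain ⟨e, he⟩ := hdvd
    have hmul := Subgroup.card_mul_index S
    rw [hX, he] at hmul
    have hidx : S.index ∣ 3 := ⟨e, by rw [mul_comm S.index]; apply Nat.eq_of_mul_eq_mul_left (show 0 < 16 by norm_num); linarith⟩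
    have hall : ∀ g : X, g * g = 1 → g ∈ S := by
      intro g hg
      have h3 : g ^ 3 ∈ S := by
        obtain ⟨j, hj⟩ := hidx
        rw [hj, pow_mul]
        exact pow_mem (Subgroup.pow_index_mem S g) j
      rwa [pow_succ, pow_two, hg, one_mul] at h3
    exact ⟨hall _ (Subtype.ext (C.xx_sq 0)), hall _ (Subtype.ext (C.xx_sq 4))⟩
  have hin0 : y ∈ Z → (⟨C.xx 0, hxX 0 le_rfl (by norm_num)⟩ : X) ∈ S := fun h =>
    hSgen 0 le_rfl (by norm_num) fun l l1 l2 => by
      by_cases hl3 : l = 3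
      · subst hl3; exact h
      · rw [C.comm_one (by omega) (by omega)]; exact Z.one_mem
  have hin4 : ⁅C.xx 1, C.xx 4⁆ ∈ Z → (⟨C.xx 4, hxX 4 (by norm_num) le_rfl⟩ : X) ∈ S := fun h =>
    hSgen 4 (by norm_num) le_rfl fun l l1 l2 => by
      by_cases hl1 : l = 1
      · subst hl1; rw [← commutatorElement_inv]; exact inv_mem h
      · rw [C.comm_one (by omega) (by omega)]; exact Z.one_mem
  have hsh : ∀ lo hi : ℤ, y ∈ C.W lo hi → ⁅C.xx 1, C.xx 4⁆ ∈ C.W (lo + 1) (hi + 1) := fun lo hi h => by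
    have h' := C.comm_mem_shift 1 h
    norm_num at h'
    exact h'
  have hback : ⁅C.xx 1, C.xx 4⁆ ∈ Z → y ∈ C.W 1 5 := fun h => by
    have h' := C.comm_mem_shift (-1) h
    norm_num at h'
    exact h'
  have hyZ : y ∉ Z := fun h => by
    have h0 := (hboth (Or.inl (hin0 h))).2 (C.xx 1) (hgQ 1 le_rfl (by norm_num))
    have h4 : ⁅C.xx 1, C.xx 4⁆ ∈ Z := by rw [← commutatorElement_inv]; exact inv_mem h0
    have h5 : y ∈ C.W 1 6 := win_glue (hback h4) h fun t h1 h2 => by omega
    rw [C.W_eq_bot (by omega)] at h5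
    exact hy1 (Subgroup.mem_bot.1 h5)
  have hy15 : y ∉ C.W 1 5 := fun h => by
    have h4 : ⁅C.xx 1, C.xx 4⁆ ∈ Z := hsh 1 5 h
    exact hyZ ((hboth (Or.inr (hin4 h4))).1 (C.xx 3) (hgQ 3 (by norm_num) le_rfl))
  have hxy : C.xx 1 * y = C.xx 2 := by
    have hidx : (Z.subgroupOf (C.W 2 5)).index = 2 := by
      have h' := Subgroup.card_mul_index (Z.subgroupOf (C.W 2 5))
      rw [Nat.card_congr (Subgroup.subgroupOfEquivOfLe (show Z ≤ C.W 2 5 from win_mono le_rfl (by norm_num))).toEquiv,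
        hZ2, C.card_W (by norm_num) (by omega), hk] at h'
      change 2 * _ = 4 at h'
      omega
    have h1 : C.xx 1 ∈ C.W 2 5 := C.xx_mem 1 (by norm_num) (by omega)
    have h1n : C.xx 1 ∉ Z := C.xx_not_mem 1 (by omega) (by omega)
    have hm : C.xx 1 * y ∈ Z := (Subgroup.mul_mem_iff_of_index_two hidx (a := ⟨C.xx 1, h1⟩) (b := ⟨y, hym⟩)).2
      ⟨fun h => absurd h h1n, fun h => absurd h hyZ⟩
    refine eq_of_card_two hZ2 hm (fun e => hy15 ?_) hzZ (C.xx_ne_one 2)
    rw [← inv_eq_of_mul_eq_one_right e, C.xx_inv]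
    exact C.xx_mem 1 le_rfl (by omega)
  -- `x₂` is not in `⟨x₀, x₃⟩`
  set J := C.W 3 4 with hJdef
  set M := Subgroup.closure ({C.xx 0, C.xx 3} : Set G) with hMdef
  have hMJ : M ≤ J := by
    rw [hMdef, Subgroup.closure_le]
    rintro g (rfl | rfl)
    · exact C.xx_mem 0 (by norm_num) (by omega)
    · exact C.xx_mem 3 le_rfl (by omega)
  set r := C.xx 0 * C.xx 3 with hr
  have hr2 : r * r = y := by rw [hr, hy, commutatorElement_def, C.xx_inv, C.xx_inv]; simp only [mul_assoc]
  have hy2 : y * y = 1 := C.sq_gens hQc (hQgen ▸ hyQ)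
  have hr4 : r ^ (4 : ℤ) = 1 := by
    rw [show (4 : ℤ) = ((4 : ℕ) : ℤ) by norm_num, zpow_natCast, show 4 = 2 * 2 by norm_num, pow_mul, pow_two,
      pow_two, hr2, hy2]
  have hzM : C.xx 2 ∉ M := by
    intro h
    obtain ⟨n, hn⟩ := (Involutions.Basic.mem_closure_pair (C.xx_sq 0) (C.xx_sq 3)).1 h
    rw [← hr] at hn
    have hzr : Commute (C.xx 2) r := hzc r (mul_mem (hxX 0 le_rfl (by norm_num)) (hxX 3 (by norm_num) (by norm_num)))
    rcases hn with hn | hn
    · -- a power of `r` which is an involution is `1` or `y`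
      have h2 : r ^ (n + n) = 1 := by rw [zpow_add, ← hn]; exact C.xx_sq 2
      obtain ⟨j, hj⟩ : ∃ j : ℕ, j < 4 ∧ r ^ j = C.xx 2 := ⟨(n % 4).toNat, by omega, by
        rw [hn, ← zpow_natCast, Int.toNat_of_nonneg (Int.emod_nonneg _ (by norm_num))]
        conv_rhs => rw [← Int.emod_add_mul_ediv n 4, zpow_add, zpow_mul, hr4, one_zpow, mul_one]⟩
      obtain ⟨hj4, hje⟩ := hj
      have hj2 : r ^ (j + j) = 1 := by rw [pow_add, hje]; exact C.xx_sq 2
      interval_cases j
      · exact C.xx_ne_one 2 (by rw [← hje, pow_zero])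
      · exact hy1 (by rw [← hr2]; simpa [pow_succ] using hj2)
      · rw [pow_two, hr2] at hje
        rw [hje] at hxy
        exact C.xx_ne_one 1 (mul_eq_right.1 hxy)
      · refine hy1 ?_
        rw [← hr2]
        have h4 : r ^ 4 = 1 := by rw [show 4 = 2 * 2 by norm_num, pow_mul, pow_two, pow_two, hr2, hy2]
        have h6 : r ^ (3 + 3) = r ^ 2 := by rw [show 3 + 3 = 4 + 2 by norm_num, pow_add, h4, one_mul]
        rw [← pow_two, ← h6, hj2]
    · have hcomm : Commute (C.xx 0) r := by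
        have h1 : Commute (C.xx 0 * r ^ n) r := hn ▸ hzr
        have := h1.mul_left ((Commute.refl r).zpow_left (-n))
        rwa [mul_assoc, ← zpow_add, add_neg_cancel, zpow_zero, mul_one] at this
      have hc03 : Commute (C.xx 0) (C.xx 3) := by
        have := (Commute.refl (C.xx 0)).inv_right.mul_right hcomm
        rwa [hr, inv_mul_cancel_left] at this
      exact hy1 (commutatorElement_eq_one_iff_mul_comm.2 hc03.eq)
  have hJM : J ≤ M ⊔ Subgroup.zpowers (C.xx 2) := by
    rw [hJdef, show (4 : ℤ) = 0 + C.k by omega, ← C.closure_gens (by omega) (by omega), Subgroup.closure_le]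
    rintro _ ⟨l, l1, l2, rfl⟩
    rcases (show l = 0 ∨ l = 1 ∨ l = 2 ∨ l = 3 by omega) with rfl | rfl | rfl | rfl
    · exact Subgroup.mem_sup_left (Subgroup.subset_closure (Or.inl rfl))
    · have : C.xx 1 = C.xx 2 * y⁻¹ := eq_mul_inv_of_mul_eq hxy
      rw [this]
      refine mul_mem (Subgroup.mem_sup_right (Subgroup.mem_zpowers _)) (inv_mem (Subgroup.mem_sup_left ?_))
      rw [← hr2]
      exact mul_mem (mul_mem (Subgroup.subset_closure (Or.inl rfl)) (Subgroup.subset_closure (Or.inr rfl)))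
        (mul_mem (Subgroup.subset_closure (Or.inl rfl)) (Subgroup.subset_closure (Or.inr rfl)))
    · exact Subgroup.mem_sup_right (Subgroup.mem_zpowers _)
    · exact Subgroup.mem_sup_left (Subgroup.subset_closure (Or.inr rfl))
  -- inside `X`
  set z : X := ⟨C.xx 2, hxX 2 (by norm_num) (by norm_num)⟩ with hzdef
  have hJX : J ≤ X := win_mono (by norm_num) le_rfl
  set J' := J.subgroupOf X with hJ'
  have hJc : Nat.card J = 16 := by rw [hJdef, C.card_W (by norm_num) (by omega), hk]; rfl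
  have hJidx : J'.index = 3 := by
    have := Subgroup.card_mul_index J'
    rw [Nat.card_congr (Subgroup.subgroupOfEquivOfLe hJX).toEquiv, hX, hJc] at this
    omega
  set M' := (M.subgroupOf X).subgroupOf J' with hM'
  have hM2 : M'.index = 2 := by
    have hzJ : (z : X) ∈ J' := C.xx_mem 2 (by norm_num) (by omega)
    have hne : M'.index ≠ 1 := fun h => by
      rw [Subgroup.index_eq_one] at h
      have : (⟨z, hzJ⟩ : J') ∈ M' := h ▸ Subgroup.mem_top _
      exact hzM this
    have hcle : Nat.card J ≤ Nat.card M * 2 := by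
      have hn : Subgroup.zpowers (C.xx 2) ≤ Subgroup.normalizer (M : Set G) := by
        refine le_trans ?_ (Subgroup.centralizer_le_normalizer _)
        rw [Subgroup.zpowers_le, Subgroup.mem_centralizer_iff]
        exact fun m hm => (hzc m (hJX (hMJ hm))).eq.symm
      have hset := Subgroup.coe_mul_of_right_le_normalizer_left M (Subgroup.zpowers (C.xx 2)) hn
      calc Nat.card J ≤ Nat.card ((M : Set G) * (Subgroup.zpowers (C.xx 2) : Set G) : Set G) := by
            rw [← hset]; exact Subgroup.card_le_of_le hJM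
        _ ≤ Nat.card M * Nat.card (Subgroup.zpowers (C.xx 2)) := Set.natCard_mul_le
        _ = Nat.card M * 2 := by
            rw [Nat.card_zpowers, orderOf_eq_prime (by rw [pow_two]; exact C.xx_sq 2) (C.xx_ne_one 2)]
    have hmul := Subgroup.card_mul_index M'
    have hcM : Nat.card M' = Nat.card M := by
      rw [hM', Nat.card_congr (Subgroup.subgroupOfEquivOfLe (show M.subgroupOf X ≤ J' from fun x hx => hMJ hx)).toEquiv,
        Nat.card_congr (Subgroup.subgroupOfEquivOfLe (hMJ.trans hJX)).toEquiv]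
    rw [hcM, Nat.card_congr (Subgroup.subgroupOfEquivOfLe hJX).toEquiv] at hmul
    have hpos : M'.index ≠ 0 := Subgroup.index_ne_zero_of_finite
    by_contra hne2
    have h3 : 3 ≤ M'.index := by omega
    have := Nat.mul_le_mul_left (Nat.card M) h3
    have := Nat.card_pos (α := M)
    omega
  have hzc' : ∀ g : X, Commute z g := fun g => Subtype.ext (hzc g g.2).eq
  have hzz : z * z = 1 := Subtype.ext (C.xx_sq 2)
  obtain ⟨L, hL2, hzL⟩ := exists_index_two_not_mem J' (M.subgroupOf X) hJidx hM2 z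
    (show C.xx 2 ∈ J from C.xx_mem 2 (by norm_num) (by omega)) hzM hzc' hzz
  haveI : L.Normal := Subgroup.normal_of_index_eq_two hL2
  have hLc : Nat.card L = 24 := by
    have := Subgroup.card_mul_index L
    rw [hL2, hX] at this; omega
  set Q' := Q.subgroupOf X with hQ'
  set V := Q' ⊓ L with hVdef
  haveI : Q'.Normal := (Subgroup.normal_subgroupOf_iff_le_normalizer hQX).2 hQn
  have hVn : L ≤ Subgroup.normalizer (V : Set X) := by
    rw [Subgroup.normalizer_eq_top]; exact le_top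
  have hzQ : z ∈ Q' := hgQ 2 (by norm_num) (by norm_num)
  have hV4 : Nat.card V = 4 := by
    have h1 : L.relIndex Q' ∣ 2 := hL2 ▸ Subgroup.relIndex_dvd_index_of_normal L Q'
    have h2 : L.relIndex Q' ≠ 1 := fun h => hzL (Subgroup.relIndex_eq_one.1 h hzQ)
    have h3 : L.relIndex Q' = 2 := ((Nat.dvd_prime Nat.prime_two).1 h1).resolve_left h2
    have := Subgroup.relIndex_mul_relIndex (⊥ : Subgroup X) V Q' bot_le inf_le_left
    rw [Subgroup.relIndex_bot_left, Subgroup.relIndex_bot_left, hVdef, Subgroup.inf_relIndex_left, h3,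
      Nat.card_congr (Subgroup.subgroupOfEquivOfLe hQX).toEquiv, hQ8] at this
    rw [hVdef]; omega
  have hW : Cfsg.IsElementaryAbelian 2 V := by
    refine ⟨⟨⟨fun v w => Subtype.ext (Subtype.ext (habQ _ v.2.1 _ w.2.1))⟩⟩, fun v hv => Subtype.ext ?_⟩
    show (v : G) ^ 2 = 1
    rw [pow_two]
    exact C.sq_gens hQc (hQgen ▸ hv.1)
  have hCQ : X ⊓ Subgroup.centralizer (Q : Set G) ≤ Q := by
    refine inf_centralizer_le hQX hQn habQ (by rw [hX, hQ8]) (a := C.xx 0) (b := C.xx 4)
      (hxX 0 le_rfl (by norm_num)) (hxX 4 (by norm_num) le_rfl) (C.xx_sq 0) ?_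
      (hgQ 1 le_rfl (by norm_num)) (C.commute_of_lt (by omega) (by omega)) ?_
    · intro h
      exact hy1 (commutatorElement_eq_one_iff_mul_comm.2
        (Subgroup.mem_centralizer_iff.1 h _ (hgQ 3 (by norm_num) le_rfl)).symm)
    · intro h
      have := C.not_commute_shift 1
      rw [hl'] at this
      exact this h.symm
  have hC : L ⊓ Subgroup.centralizer (V : Set X) ≤ V := by
    rintro c ⟨hcL, hcV⟩
    refine ⟨hCQ ⟨c.2, Subgroup.mem_centralizer_iff.2 fun q hq => ?_⟩, hcL⟩
    by_cases hqL : (⟨q, hQX hq⟩ : X) ∈ L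
    · exact congrArg Subtype.val (Subgroup.mem_centralizer_iff.1 hcV ⟨q, hQX hq⟩ ⟨hq, hqL⟩)
    · have hm : z * ⟨q, hQX hq⟩ ∈ L := (Subgroup.mul_mem_iff_of_index_two hL2).2
        ⟨fun h => absurd h hzL, fun h => absurd h hqL⟩
      have h := congrArg Subtype.val
        (Subgroup.mem_centralizer_iff.1 hcV (z * ⟨q, hQX hq⟩) ⟨mul_mem hzQ hq, hm⟩)
      have h' : C.xx 2 * q * (c : G) = (c : G) * (C.xx 2 * q) := h
      have hzc2 := (hzc (c : G) c.2).eq
      calc q * (c : G) = C.xx 2 * (C.xx 2 * q * (c : G)) := by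
            rw [← mul_assoc, ← mul_assoc, C.xx_sq, one_mul]
        _ = C.xx 2 * ((c : G) * (C.xx 2 * q)) := by rw [h']
        _ = (c : G) * q := by rw [← mul_assoc, hzc2, mul_assoc, ← mul_assoc (C.xx 2), C.xx_sq, one_mul]
  obtain ⟨e⟩ := LAEven56.JComp.iso_perm_four (inf_le_right : V ≤ L) hVn hW hV4 hLc hC
  obtain ⟨e2⟩ := iso_prod L hL2 z hzL hzz hzc'
  exact ⟨(C.pointEquiv 4).trans (e2.trans (MulEquiv.prodCongr e (MulEquiv.refl _)))⟩

end Chain

end Cfsg.Agent.Lib.SimsThree
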