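import Cfsg.Agent.Lib.SimsThree.Setup
import Cfsg.Agent.Lib.SimsThree.Iso

/-!
# Sims: a suborbit of length three

Owner: helper64.
-/

set_option autoImplicit false

namespace Cfsg.Agent.Lib.SimsThree

open MulAction Cfsg.Agent.Lib.ThompsonWielandt

theorem cases {G Ω : Type*} [Group G] [Finite G] [MulAction G Ω] [FaithfulSMul G Ω] [Finite Ω]
    (hprim : IsPreprimitive G Ω) (a b : Ω) (h3 : Nat.card (orbit (stabilizer G a) b) = 3) :
    Nat.card (stabilizer G a) = 3 ∨ ∃ C : Chain G, C.H = stabilizer G a ∧ C.k ≤ 4 := by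
  obtain ⟨hp, hd⟩ := pair_of_suborbit hprim a b h3 (by norm_num)
  rcases exists_chain hp hd with h | ⟨C, hC⟩
  · exact Or.inl h
  · exact Or.inr ⟨C, hC, C.k_le_four⟩

end Cfsg.Agent.Lib.SimsThree
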