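import Cfsg.Agent.Lib.ThompsonWielandt.Bound
import Cfsg.Agent.Lib.SimsThree.Chain

/-!
# A suborbit of length three gives a chain

Owner: helper64.
-/

set_option autoImplicit false
set_option linter.style.haveILetI false

namespace Cfsg.Agent.Lib.SimsThree

open Cfsg.Agent.Lib.ThompsonWielandt

variable {G : Type*} [Group G] [Finite G]

/-- Elements of odd order lie in a normal subgroup of index dividing two. -/
theorem mem_of_odd {A J : Subgroup G} (hAJ : A ≤ J) (hn : J ≤ Subgroup.normalizer (A : Set G))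
    (hd : A.relIndex J ∣ 2) {g : G} (hg : g ∈ J) (hodd : (orderOf g).Coprime 2) : g ∈ A := by
  haveI := (Subgroup.normal_subgroupOf_iff_le_normalizer hAJ).2 hn
  have h1 := Subgroup.pow_index_mem (A.subgroupOf J) ⟨g, hg⟩
  obtain ⟨e, he⟩ := hd
  have h2 : (g ^ 2) ∈ A := by
    have := pow_mem h1 e
    rw [← pow_mul] at this
    change g ^ ((A.subgroupOf J).index * e) ∈ A at this
    rwa [show (A.subgroupOf J).index * e = 2 from he.symm] at this
  obtain ⟨m, hm⟩ := exists_pow_eq_self_of_coprime hodd.symm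
  rw [← hm]
  exact pow_mem h2 m

/-- The intersection is a 2-group. -/
theorem isPGroup_two_inf {H K : Subgroup G} (hp : Pair H K) (hd : (H ⊓ K).relIndex H = 3) :
    IsPGroup 2 (H ⊓ K : Subgroup G) := by
  haveI := Fact.mk Nat.prime_two
  have key : ∀ {A B : Subgroup G}, A ⊓ B = H ⊓ K → (A ⊓ B).relIndex A = 3 →
      (coreIn A (H ⊓ K)).relIndex (H ⊓ K) ∣ 2 := by
    intro A B e h
    have hle : H ⊓ K ≤ A := e ▸ inf_le_left
    rw [e] at h
    have h1 := relIndex_coreIn_dvd A (H ⊓ K)
    rw [← Subgroup.relIndex_mul_relIndex _ _ _ (coreIn_le_right A (H ⊓ K)) hle, h] at h1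
    rw [show Nat.factorial 3 = 2 * 3 by decide] at h1
    exact Nat.dvd_of_mul_dvd_mul_right (by norm_num) h1
  have kH := key (A := H) (B := K) rfl hd
  have kK := key (A := K) (B := H) (inf_comm K H) (by rw [inf_comm, hp.relIndex_inf_eq, hd])
  set U := Subgroup.closure {g | g ∈ H ⊓ K ∧ (orderOf g).Coprime 2} with hU
  have hnorm : ∀ A : Subgroup G, H ⊓ K ≤ A → (coreIn A (H ⊓ K)).relIndex (H ⊓ K) ∣ 2 →
      A ≤ Subgroup.normalizer (U : Set G) := by
    intro A hle hk
    rw [hU, Subgroup.le_normalizer_closure_iff]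
    rintro a ha g ⟨hg, hco⟩
    have hgc := mem_of_odd (coreIn_le_right A _) (hle.trans (le_normalizer_coreIn A _)) hk hg hco
    refine Subgroup.subset_closure ⟨(mem_coreIn.1 hgc).2 a ha, ?_⟩
    rwa [show orderOf (a * g * a⁻¹) = orderOf g from (MulAut.conj a).orderOf_eq g]
  have hUJ : U ≤ H ⊓ K := (Subgroup.closure_le _).2 fun g hg => hg.1
  have hbot := hp.eq_bot (hUJ.trans inf_le_left) (hUJ.trans inf_le_right) (hnorm H inf_le_left kH)
    (hnorm K inf_le_right kK)
  refine CharP.isPGroup_of_coprime_eq_one fun g hg hco => ?_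
  exact Subgroup.mem_bot.1 (hbot ▸ Subgroup.subset_closure ⟨hg, hco⟩)

theorem win_one_one {H : Subgroup G} {u g : G} :
    g ∈ win H u 1 1 ↔ g ∈ H.map (MulAut.conj u).toMonoidHom := by
  rw [Subgroup.mem_map_equiv, MulAut.conj_symm_apply, mem_win]
  constructor
  · intro h; simpa using h 1 le_rfl le_rfl
  · intro h t h1 h2
    obtain rfl : t = 1 := by omega
    simpa using h

omit [Finite G] in
theorem win_eq_inf (H : Subgroup G) (u : G) : win H u 0 1 = win H u 0 0 ⊓ win H u 1 1 := by
  refine le_antisymm (le_inf (win_mono le_rfl (by omega)) (win_mono (by omega) le_rfl)) ?_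
  intro g hg
  exact win_glue hg.1 hg.2 fun t h1 h2 => by omega

theorem half_normal {A B : Subgroup G} (hle : A ≤ B) (h : A.relIndex B = 2) :
    B ≤ Subgroup.normalizer (A : Set G) :=
  (Subgroup.normal_subgroupOf_iff_le_normalizer hle).1 (Subgroup.normal_of_index_eq_two h)

/-- Sims: either the stabilizer has order three or there is a chain. -/
theorem exists_chain {H K : Subgroup G} (hp : Pair H K) (hd : (H ⊓ K).relIndex H = 3) :
    Nat.card H = 3 ∨ ∃ C : Chain G, C.H = H := by
  haveI := Fact.mk Nat.prime_two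
  have hJ2 := isPGroup_two_inf hp hd
  obtain ⟨k, hk⟩ := IsPGroup.iff_card.1 hJ2
  have hHc : Nat.card H = 3 * 2 ^ k := by
    have := Subgroup.relIndex_mul_relIndex (⊥ : Subgroup G) (H ⊓ K) H bot_le inf_le_left
    rw [Subgroup.relIndex_bot_left, Subgroup.relIndex_bot_left, hk, hd, mul_comm] at this
    exact this.symm
  obtain ⟨g, hg⟩ := hp.conj
  by_cases hnormal : H ≤ Subgroup.normalizer ((H ⊓ K : Subgroup G) : Set G)
  · left
    set J' := (H ⊓ K).map (MulAut.conj g).toMonoidHom with hJ'
    have hJ'K : J' ≤ K := (Subgroup.map_mono inf_le_left).trans hg.ge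
    have hK' : K ≤ Subgroup.normalizer (J' : Set G) :=
      hg.le.trans ((Subgroup.map_mono hnormal).trans (Subgroup.le_normalizer_map _))
    have hc : Nat.card J' = 2 ^ k := by
      rw [hJ', Subgroup.card_map_of_injective (f := (MulAut.conj g).toMonoidHom) (MulAut.conj g).injective, hk]
    have h3 : J'.relIndex K = 3 := by
      have := Subgroup.relIndex_mul_relIndex (⊥ : Subgroup G) J' K bot_le hJ'K
      rw [Subgroup.relIndex_bot_left, Subgroup.relIndex_bot_left, hp.card_eq, hHc, hc, mul_comm 3] at this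
      exact Nat.eq_of_mul_eq_mul_left (pow_pos two_pos k) this
    have hle : H ⊓ K ≤ J' := by
      refine Subgroup.relIndex_eq_one.1 ?_
      haveI := (Subgroup.normal_subgroupOf_iff_le_normalizer hJ'K).2 hK'
      have h1 : J'.relIndex (H ⊓ K) ∣ 3 := by
        rw [← h3, ← Subgroup.relIndex_subgroupOf (inf_le_right : H ⊓ K ≤ K)]
        exact Subgroup.relIndex_dvd_index_of_normal _ _
      have h2 : J'.relIndex (H ⊓ K) ∣ 2 ^ k := hk ▸ Subgroup.relIndex_dvd_card _ _
      exact Nat.eq_one_of_dvd_coprimes (((Nat.coprime_primes Nat.prime_three Nat.prime_two).2 (by norm_num)).pow_right k) h1 h2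
    have heq : H ⊓ K = J' := Subgroup.eq_of_le_of_card_ge hle (by rw [hc, hk])
    have hbot := hp.eq_bot (inf_le_left : H ⊓ K ≤ H) inf_le_right hnormal (heq.symm ▸ hK')
    rw [hbot, Subgroup.card_bot] at hk
    rw [hHc, ← hk, mul_one]
  right
  obtain ⟨u, huK, huJ⟩ : ∃ u : G, K = H.map (MulAut.conj u).toMonoidHom ∧
      (H ⊓ K).map (MulAut.conj u).toMonoidHom ≠ H ⊓ K := by
    by_contra hcon
    push Not at hcon
    refine hnormal fun h hh => ?_
    rw [Subgroup.mem_normalizer_iff_map_conj_eq]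
    have e1 : ∀ x : G, x ∈ H → (H ⊓ K).map (MulAut.conj (g * x)).toMonoidHom = H ⊓ K := by
      intro x hx
      refine hcon _ ?_
      have e : H.map (MulAut.conj x).toMonoidHom = H :=
        Subgroup.mem_normalizer_iff_map_conj_eq.1 (Subgroup.le_normalizer hx)
      rw [map_mul, show ((MulAut.conj g * MulAut.conj x : MulAut G)).toMonoidHom =
        (MulAut.conj g).toMonoidHom.comp (MulAut.conj x).toMonoidHom from rfl, ← Subgroup.map_map, e]
      exact hg
    have a := e1 h hh
    rw [map_mul, show ((MulAut.conj g * MulAut.conj h : MulAut G)).toMonoidHom =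
      (MulAut.conj g).toMonoidHom.comp (MulAut.conj h).toMonoidHom from rfl, ← Subgroup.map_map] at a
    have b := e1 1 H.one_mem
    rw [mul_one] at b
    exact Subgroup.map_injective (f := (MulAut.conj g).toMonoidHom) (MulAut.conj g).injective (a.trans b.symm)
  have hW00 : win H u 0 0 = H := win_zero H u
  have hW11 : win H u 1 1 = K := by ext x; rw [win_one_one, ← huK]
  have hW01 : win H u 0 1 = H ⊓ K := by rw [win_eq_inf, hW00, hW11]
  have hW12 : win H u 1 2 = (H ⊓ K).map (MulAut.conj u).toMonoidHom := by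
    rw [show (1 : ℤ) = 0 + 1 by norm_num, show (2 : ℤ) = 0 + 1 + 1 by norm_num, win_shift, zero_add, hW01, zpow_one]
  have hk1 : 1 ≤ k := by
    by_contra h
    obtain rfl : k = 0 := by omega
    refine huJ ?_
    rw [Subgroup.card_eq_one.1 (hk.trans (pow_zero 2)), Subgroup.map_bot]
  have hc01 : Nat.card (win H u 0 1) = 2 ^ k := by rw [hW01, hk]
  have hs01 : ∀ s : ℤ, Nat.card (win H u s (1 + s)) = 2 ^ k := fun s => by
    have := card_win_shift H u 0 1 s
    rwa [zero_add, hc01] at this
  -- index two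
  have htwo : (win H u 0 2).relIndex (win H u 0 1) = 2 := by
    have e : win H u 0 2 = win H u 1 2 ⊓ win H u 0 1 := by
      refine le_antisymm (le_inf (win_mono (by omega) le_rfl) (win_mono le_rfl (by omega))) ?_
      intro x hx
      exact win_glue hx.1 hx.2 fun t h1 h2 => by omega
    rw [e, Subgroup.inf_relIndex_right]
    have hle1 : win H u 1 2 ≤ K := hW11 ▸ win_mono le_rfl (by omega)
    have h3 : (win H u 1 2).relIndex K = 3 := by
      have := Subgroup.relIndex_mul_relIndex (⊥ : Subgroup G) (win H u 1 2) K bot_le hle1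
      rw [Subgroup.relIndex_bot_left, Subgroup.relIndex_bot_left, hp.card_eq, hHc, mul_comm 3,
        show Nat.card (win H u 1 2) = 2 ^ k from hs01 1] at this
      exact Nat.eq_of_mul_eq_mul_left (pow_pos two_pos k) this
    have h4 := Subgroup.relIndex_le_of_le_right (H := win H u 1 2)
      (show win H u 0 1 ≤ K from hW01 ▸ inf_le_right) (by rw [h3]; norm_num)
    rw [h3] at h4
    obtain ⟨j, -, hj⟩ := (Nat.dvd_prime_pow Nat.prime_two).1 (hc01 ▸ Subgroup.relIndex_dvd_card (win H u 1 2) (win H u 0 1))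
    have h1 : (win H u 1 2).relIndex (win H u 0 1) ≠ 1 := by
      intro h1
      rw [Subgroup.relIndex_eq_one] at h1
      have := Subgroup.eq_of_le_of_card_ge h1 (by rw [show Nat.card (win H u 1 2) = 2 ^ k from hs01 1, hc01])
      rw [hW12, hW01] at this
      exact huJ this.symm
    rw [hj] at h4 h1 ⊢
    rcases j with _ | _ | j
    · exact absurd rfl h1
    · rfl
    · simp only [pow_succ] at h4; have := Nat.one_le_pow j 2 two_pos; omega
  have htwo' : ∀ s : ℤ, (win H u s (2 + s)).relIndex (win H u s (1 + s)) = 2 := fun s => by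
    have e := Subgroup.relIndex_map_map_of_injective (win H u 0 2) (win H u 0 1)
      (f := (MulAut.conj (u ^ s)).toMonoidHom) (MulAut.conj (u ^ s)).injective
    rw [← win_shift, ← win_shift, zero_add, htwo] at e
    exact e
  have hstep : ∀ lo hi : ℤ, lo < hi → (win H u lo (hi + 1)).relIndex (win H u lo hi) ∣ 2 := by
    intro lo hi hlt
    have h := htwo' (hi - 1)
    rw [show 2 + (hi - 1) = hi + 1 by ring, show 1 + (hi - 1) = hi by ring] at h
    have hle : win H u lo hi ≤ win H u (hi - 1) hi := win_mono (by omega) le_rfl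
    have e : win H u lo (hi + 1) = win H u (hi - 1) (hi + 1) ⊓ win H u lo hi := by
      refine le_antisymm (le_inf (win_mono (by omega) le_rfl) (win_mono le_rfl (by omega))) ?_
      intro x hx
      exact win_glue hx.1 hx.2 fun t h1 h2 => by omega
    rw [e, Subgroup.inf_relIndex_right, ← h, ← Subgroup.relIndex_subgroupOf hle]
    haveI : ((win H u (hi - 1) (hi + 1)).subgroupOf (win H u (hi - 1) hi)).Normal :=
      Subgroup.normal_of_index_eq_two h
    exact Subgroup.relIndex_dvd_index_of_normal _ _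
  -- the paths stabilise
  set f := fun m : ℕ => win H u 0 (m : ℤ) with hf
  have hanti : ∀ m, f (m + 1) ≤ f m := fun m => win_mono le_rfl (by push_cast; omega)
  have hex : ∃ m, f (m + 1) = f m := by
    by_contra hcon
    push Not at hcon
    have hlt : ∀ m, Nat.card (f m) + m ≤ Nat.card (f 0) := by
      intro m
      induction m with
      | zero => simp
      | succ m ih =>
        have : Nat.card (f (m + 1)) < Nat.card (f m) := by
          by_contra h
          exact hcon m (Subgroup.eq_of_le_of_card_ge (hanti m) (not_lt.1 h))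
        omega
    have := hlt (Nat.card (f 0) + 1)
    omega
  classical
  set m := Nat.find hex with hm
  have hmeq : f (m + 1) = f m := Nat.find_spec hex
  have hmin : ∀ j, j < m → f (j + 1) ≠ f j := fun j hj => Nat.find_min hex hj
  have hm2 : 2 ≤ m := by
    by_contra h
    rcases (show m = 0 ∨ m = 1 by omega) with e | e <;> rw [e] at hmeq
    · have := congrArg (fun S : Subgroup G => Nat.card S) hmeq
      simp only [hf, zero_add, Nat.cast_one, Nat.cast_zero, hc01, hW00, hHc] at this
      have := Nat.one_le_pow k 2 two_pos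
      omega
    · simp only [hf, Nat.reduceAdd, Nat.cast_ofNat, Nat.cast_one] at hmeq
      rw [hmeq, Subgroup.relIndex_self] at htwo
      norm_num at htwo
  have hdouble : ∀ j : ℕ, 1 ≤ j → j < m → Nat.card (f j) = Nat.card (f (j + 1)) * 2 := by
    intro j hj1 hjm
    have hd' : (f (j + 1)).relIndex (f j) ∣ 2 := by
      simp only [hf, Nat.cast_add, Nat.cast_one]
      exact hstep 0 j (by omega)
    rcases (Nat.dvd_prime Nat.prime_two).1 hd' with h | h
    · exact absurd (le_antisymm (hanti j) (Subgroup.relIndex_eq_one.1 h)) (hmin j hjm)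
    · have := Subgroup.relIndex_mul_relIndex (⊥ : Subgroup G) (f (j + 1)) (f j) bot_le (hanti j)
      rw [Subgroup.relIndex_bot_left, Subgroup.relIndex_bot_left, h] at this
      exact this.symm
  have hcount : ∀ j : ℕ, j + 1 ≤ m → Nat.card (f (j + 1)) * 2 ^ j = 2 ^ k := by
    intro j
    induction j with
    | zero => intro _; simpa [hf] using hc01
    | succ j ih =>
      intro hj
      rw [← ih (by omega), hdouble (j + 1) (by omega) (by omega), pow_succ]; ring
  -- the stable stabilizer is trivial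
  set P := f m with hP
  have hshift1 : P.map (MulAut.conj u).toMonoidHom = P := by
    have e : P.map (MulAut.conj u).toMonoidHom = win H u 1 ((m : ℤ) + 1) := by
      have := (win_shift H u 0 (m : ℤ) 1).symm
      rwa [zero_add, zpow_one] at this
    rw [e]
    refine (Subgroup.eq_of_le_of_card_ge (show P ≤ win H u 1 ((m : ℤ) + 1) from ?_) ?_).symm
    · exact hmeq.ge.trans (win_mono (by omega) (by push_cast; omega))
    · rw [← e, Subgroup.card_map_of_injective (f := (MulAut.conj u).toMonoidHom) (MulAut.conj u).injective]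
  have huN : u ∈ Subgroup.normalizer (P : Set G) := Subgroup.mem_normalizer_iff_map_conj_eq.2 hshift1
  have hshift : ∀ s : ℤ, win H u s ((m : ℤ) + s) = P := fun s => by
    have := win_shift H u 0 (m : ℤ) s
    rw [zero_add] at this
    rw [this]
    exact Subgroup.mem_normalizer_iff_map_conj_eq.1 (Subgroup.zpow_mem _ huN s)
  set A := f (m - 1) with hA
  set B := win H u (-((m : ℤ) - 1)) 0 with hB
  have hcast : ((m - 1 : ℕ) : ℤ) = (m : ℤ) - 1 := by omega
  have hAP : P ≤ A := by
    have := hanti (m - 1); rwa [show m - 1 + 1 = m by omega] at this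
  have hA2 : P.relIndex A = 2 := by
    have h := hdouble (m - 1) (by omega) (by omega)
    rw [show m - 1 + 1 = m by omega, ← hA, ← hP] at h
    have := Subgroup.relIndex_mul_relIndex (⊥ : Subgroup G) P A bot_le hAP
    rw [Subgroup.relIndex_bot_left, Subgroup.relIndex_bot_left, h] at this
    exact Nat.eq_of_mul_eq_mul_left Nat.card_pos this
  have hnA : A ≤ Subgroup.normalizer (P : Set G) := half_normal hAP hA2
  have hBmap : B = A.map (MulAut.conj (u ^ (-((m : ℤ) - 1)))).toMonoidHom := by
    rw [hA, hf]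
    simp only [hcast]
    rw [← win_shift, zero_add, add_neg_cancel]
  have hnB : B ≤ Subgroup.normalizer (P : Set G) := by
    refine hBmap.le.trans ((Subgroup.map_mono hnA).trans ((Subgroup.le_normalizer_map _).trans ?_))
    rw [show P.map (MulAut.conj (u ^ (-((m : ℤ) - 1)))).toMonoidHom = P from
      Subgroup.mem_normalizer_iff_map_conj_eq.1 (Subgroup.zpow_mem _ huN (-((m : ℤ) - 1)))]
  obtain ⟨a, haA, haJ⟩ : ∃ a ∈ A, a ∉ win H u (-1) 0 := by
    by_contra hcon
    push Not at hcon
    have hle : A ≤ P := fun x hx => by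
      rw [← hshift (-1)]
      refine win_glue (hcon x hx) (show x ∈ win H u 0 ((m - 1 : ℕ) : ℤ) from hx) fun t h1 h2 => ?_
      omega
    rw [Subgroup.relIndex_eq_one.2 hle] at hA2
    norm_num at hA2
  obtain ⟨b, hbB, hbJ⟩ : ∃ b ∈ B, b ∉ win H u 0 1 := by
    by_contra hcon
    push Not at hcon
    have hle : B ≤ P := fun x hx => by
      rw [← hshift (-((m : ℤ) - 1))]
      refine win_glue hx (hcon x hx) fun t h1 h2 => ?_
      omega
    have hc := Subgroup.card_le_of_le hle
    rw [hBmap, Subgroup.card_map_of_injective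
      (f := (MulAut.conj (u ^ (-((m : ℤ) - 1)))).toMonoidHom) (MulAut.conj _).injective] at hc
    rw [← Subgroup.eq_of_le_of_card_ge hAP hc, Subgroup.relIndex_self] at hA2
    norm_num at hA2
  set J := win H u 0 1 with hJ
  set J₁ := win H u (-1) 0 with hJ₁
  set Q := win H u (-1) 1 with hQ
  have hQJ : Q ≤ J := win_mono (by omega) le_rfl
  have hQJ₁ : Q ≤ J₁ := win_mono le_rfl (by omega)
  have hQ2 : Q.relIndex J₁ = 2 := by
    have := htwo' (-1); rwa [show (2 : ℤ) + -1 = 1 by norm_num, show (1 : ℤ) + -1 = 0 by norm_num] at this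
  have hcJ₁ : Nat.card J₁ = 2 ^ k := by
    have := hs01 (-1); rwa [show (1 : ℤ) + -1 = 0 by norm_num] at this
  have hcQ : Nat.card Q * 2 = 2 ^ k := by
    have := Subgroup.relIndex_mul_relIndex (⊥ : Subgroup G) Q J₁ bot_le hQJ₁
    rwa [Subgroup.relIndex_bot_left, Subgroup.relIndex_bot_left, hQ2, hcJ₁] at this
  have hQJ2 : Q.relIndex J = 2 := by
    have := Subgroup.relIndex_mul_relIndex (⊥ : Subgroup G) Q J bot_le hQJ
    rw [Subgroup.relIndex_bot_left, Subgroup.relIndex_bot_left, hc01, ← hcQ] at this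
    exact Nat.eq_of_mul_eq_mul_left Nat.card_pos this
  have hJH : J ≤ H := hW01 ▸ inf_le_left
  have hJ₁H : J₁ ≤ H := hW00 ▸ win_mono (by omega) le_rfl
  have hJne : ¬ J₁ ≤ J := by
    intro hle
    have : J₁ ≤ Q := fun x hx => win_glue hx (hle hx) fun t h1 h2 => by omega
    rw [Subgroup.relIndex_eq_one.2 this] at hQ2
    norm_num at hQ2
  have hgenH : ∀ S : Subgroup G, S ≤ H → J ≤ S → ∀ c ∈ S, c ∉ J → S = H := by
    intro S hS hJS c hc hcJ
    refine Subgroup.eq_of_le_of_card_ge hS ?_
    obtain ⟨e, he⟩ := Subgroup.card_dvd_of_le hJS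
    have hd' := Subgroup.card_dvd_of_le hS
    rw [hHc, he, hc01, mul_comm 3] at hd'
    have h1 : e ≠ 1 := fun e1 => hcJ ((Subgroup.eq_of_le_of_card_ge hJS (by rw [he, e1, mul_one])) ▸ hc)
    rcases (Nat.dvd_prime Nat.prime_three).1 (Nat.dvd_of_mul_dvd_mul_left (pow_pos two_pos k) hd') with h | h
    · exact absurd h h1
    · rw [hHc, he, hc01, h, mul_comm]
  have hQn : H ≤ Subgroup.normalizer (Q : Set G) := by
    obtain ⟨c, hc, hcJ⟩ := SetLike.not_le_iff_exists.1 hJne
    have := hgenH (Subgroup.normalizer (Q : Set G) ⊓ H) inf_le_right (le_inf (half_normal hQJ hQJ2) hJH) c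
      ⟨half_normal hQJ₁ hQ2 hc, hJ₁H hc⟩ hcJ
    exact this.ge.trans inf_le_left
  have hbH : b ∈ H := hW00 ▸ win_mono (by omega) le_rfl hbB
  have haJ0 : a ∈ J := win_mono le_rfl (by omega) haA
  -- `⟨A, B⟩` is transitive on `H / J`
  have hRJ : ∀ h ∈ H, ∃ r ∈ Subgroup.normalizer (P : Set G), ∃ j ∈ J, r ∈ H ∧ h = r * j := by
    have hbad : b⁻¹ * a * b ∉ J := by
      intro hin
      set T := J ⊓ J.map (MulAut.conj b).toMonoidHom with hT
      have hQT : Q ≤ T := le_inf hQJ (fun x hx => by
        rw [Subgroup.mem_map_equiv, MulAut.conj_symm_apply]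
        exact hQJ ((Subgroup.mem_normalizer_iff''.1 (hQn hbH) x).1 hx))
      have haT : a ∈ T := ⟨haJ0, Subgroup.mem_map_equiv.2 (by rw [MulAut.conj_symm_apply]; exact hin)⟩
      have hmul := Subgroup.relIndex_mul_relIndex Q T J hQT inf_le_left
      rw [hQJ2] at hmul
      rcases (Nat.dvd_prime Nat.prime_two).1 (Dvd.intro_left _ hmul) with h | h
      · rw [Subgroup.relIndex_eq_one] at h
        have hnorm : b ∈ Subgroup.normalizer (J : Set G) := by
          rw [Subgroup.mem_normalizer_iff_map_conj_eq]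
          exact (Subgroup.eq_of_le_of_card_ge (h.trans inf_le_right)
            (Subgroup.card_map_of_injective (MulAut.conj b).injective).le).symm
        have := hgenH (Subgroup.normalizer (J : Set G) ⊓ H) inf_le_right (le_inf Subgroup.le_normalizer hJH) b
          ⟨hnorm, hbH⟩ hbJ
        exact hnormal (hW01 ▸ this.ge.trans inf_le_left)
      · rw [h, mul_eq_right₀ (by norm_num : (2 : ℕ) ≠ 0), Subgroup.relIndex_eq_one] at hmul
        exact haJ (hQJ₁ (hmul haT))
    intro h hh
    haveI : Finite (H ⧸ J.subgroupOf H) := inferInstance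
    have h3 : Nat.card (H ⧸ J.subgroupOf H) = 3 := by
      rw [← Subgroup.index, ← hd, ← hW01]; rfl
    let q : Fin 3 → H ⧸ J.subgroupOf H := ![((1 : H) : H ⧸ J.subgroupOf H), ((⟨b, hbH⟩ : H) : H ⧸ J.subgroupOf H),
      ((⟨a * b, H.mul_mem (hJH haJ0) hbH⟩ : H) : H ⧸ J.subgroupOf H)]
    have hmk : ∀ x y : H, ((x : H ⧸ J.subgroupOf H) = y) ↔ (x : G)⁻¹ * y ∈ J := fun x y => by
      rw [QuotientGroup.eq]; rfl
    have n1 : q 0 ≠ q 1 := fun e => hbJ (by simpa [q] using (hmk _ _).1 e)
    have n2 : q 0 ≠ q 2 := fun e => by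
      have e' : a * b ∈ J := by simpa [q] using (hmk _ _).1 e
      exact hbJ (by simpa using J.mul_mem (J.inv_mem haJ0) e')
    have n3 : q 1 ≠ q 2 := fun e => hbad (by simpa [q, mul_assoc] using (hmk _ _).1 e)
    have hinj : Function.Injective q := by
      intro i j e
      match i, j, e with
      | 0, 0, _ => rfl
      | 1, 1, _ => rfl
      | 2, 2, _ => rfl
      | 0, 1, e => exact absurd e n1
      | 1, 0, e => exact absurd e.symm n1
      | 0, 2, e => exact absurd e n2
      | 2, 0, e => exact absurd e.symm n2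
      | 1, 2, e => exact absurd e n3
      | 2, 1, e => exact absurd e.symm n3
    obtain ⟨i, hi⟩ := ((Nat.bijective_iff_injective_and_card q).2 ⟨hinj, by rw [h3]; simp⟩).2
      ((⟨h, hh⟩ : H) : H ⧸ J.subgroupOf H)
    fin_cases i
    · refine ⟨1, one_mem _, h, ?_, H.one_mem, (one_mul h).symm⟩
      simpa [q] using (hmk _ _).1 hi
    · refine ⟨b, hnB hbB, b⁻¹ * h, ?_, hbH, by group⟩
      simpa [q] using (hmk _ _).1 hi
    · refine ⟨a * b, mul_mem (hnA haA) (hnB hbB), (a * b)⁻¹ * h, ?_, H.mul_mem (hJH haJ0) hbH, by group⟩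
      simpa [q] using (hmk _ _).1 hi
  -- `⟨H, u⟩ ⊆ N(P) H`
  set M := Subgroup.closure ((H : Set G) ∪ {u}) with hM
  have hMle : ∀ x ∈ M, ∃ n ∈ Subgroup.normalizer (P : Set G), ∃ h ∈ H, x = n * h := by
    have hu_step : ∀ h ∈ H, ∃ n ∈ Subgroup.normalizer (P : Set G), ∃ h' ∈ H, h * u = n * h' := by
      intro h hh
      obtain ⟨r, hr, j, hj, -, rfl⟩ := hRJ h hh
      refine ⟨r * u, mul_mem hr huN, u⁻¹ * j * u, ?_, by group⟩
      have : j ∈ K := (hW01 ▸ hj : j ∈ H ⊓ K).2
      rw [huK, Subgroup.mem_map_equiv, MulAut.conj_symm_apply] at this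
      exact this
    have hmul : ∀ x : G, (∃ n ∈ Subgroup.normalizer (P : Set G), ∃ h ∈ H, x = n * h) →
        ∀ y ∈ Submonoid.closure ((H : Set G) ∪ {u}), ∃ n ∈ Subgroup.normalizer (P : Set G), ∃ h ∈ H, x * y = n * h := by
      intro x hx y hy
      induction hy using Submonoid.closure_induction_right with
      | one => simpa using hx
      | mul_right y _ z hz ih =>
        obtain ⟨n, hn, h, hh, e⟩ := ih
        rcases hz with hz | hz
        · exact ⟨n, hn, h * z, H.mul_mem hh hz, by rw [← mul_assoc, e, mul_assoc]⟩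
        · obtain ⟨n', hn', h', hh', e'⟩ := hu_step h hh
          refine ⟨n * n', mul_mem hn hn', h', hh', ?_⟩
          rw [Set.mem_singleton_iff.1 hz, ← mul_assoc, e, mul_assoc, e', ← mul_assoc]
    intro x hx
    rw [hM, ← Subgroup.mem_toSubmonoid, Subgroup.closure_toSubmonoid_of_finite] at hx
    obtain ⟨n, hn, h, hh, e⟩ := hmul 1 ⟨1, one_mem _, 1, H.one_mem, (one_mul 1).symm⟩ x hx
    exact ⟨n, hn, h, hh, by rwa [one_mul] at e⟩
  have huH : u ∉ H := fun h => hp.ne (by
    rw [huK]; exact (Subgroup.mem_normalizer_iff_map_conj_eq.1 (Subgroup.le_normalizer h)).symm)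
  have hPH : P ≤ H := hW00 ▸ win_mono le_rfl (by omega)
  have hPbot : P = ⊥ := by
    set X := coreIn M H with hX
    have hPX : P ≤ X := fun y hy => by
      refine mem_coreIn.2 ⟨Subgroup.subset_closure (Or.inl (hPH hy)), fun x hx => ?_⟩
      obtain ⟨n, hn, h, hh, e⟩ := hMle x⁻¹ (inv_mem hx)
      have ex : x = h⁻¹ * n⁻¹ := by rw [← mul_inv_rev, ← e, inv_inv]
      have h1 : n⁻¹ * y * n ∈ H := hPH ((Subgroup.mem_normalizer_iff''.1 hn y).1 hy)
      rw [ex]
      have := H.mul_mem (H.mul_mem (H.inv_mem hh) h1) hh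
      simpa [mul_assoc] using this
    by_contra hne
    have hXne : X ≠ ⊥ := fun h => hne (le_bot_iff.1 (h ▸ hPX))
    have hHM : H ≤ M := fun h hh => Subgroup.subset_closure (Or.inl hh)
    exact huH (hp.locH X (coreIn_le_right M H) hXne (hHM.trans (le_normalizer_coreIn M H))
      (le_normalizer_coreIn M H (Subgroup.subset_closure (Or.inr rfl))))
  have hmk' : m - 1 = k := by
    have h := hcount (m - 1) (by omega)
    rw [show m - 1 + 1 = m by omega, ← hP, hPbot, Subgroup.card_bot, one_mul] at h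
    exact Nat.pow_right_injective le_rfl h
  have hcA : 1 < Nat.card A := by
    have h := hdouble (m - 1) (by omega) (by omega)
    rw [show m - 1 + 1 = m by omega, ← hA, ← hP, hPbot, Subgroup.card_bot, one_mul] at h
    omega
  haveI : Nontrivial A := Finite.one_lt_card_iff_nontrivial.1 hcA
  obtain ⟨⟨x, hxA⟩, hx1⟩ := exists_ne (1 : A)
  refine ⟨⟨H, u, k, x, hk1, ?_, fun h => hx1 (Subtype.ext h), hc01, hHc, ?_, hstep, ?_⟩, rfl⟩
  · rw [← hmk']; exact hxA
  · rw [← hPbot, hP, hf]
    simp only
    congr 1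
    omega
  · intro X hX h0 h1
    rw [hW00] at h0
    rw [hW11] at h1
    exact hp.eq_bot (hX.trans (hW01.le.trans inf_le_left)) (hX.trans (hW01.le.trans inf_le_right)) h0 h1

end Cfsg.Agent.Lib.SimsThree
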